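import Groth.Agent.Lib.SplitExt9.Glue
import Groth.Agent.S1145
import Groth.Agent.Lib.Henselian.IndEtale
import Groth.Agent.Lib.Henselian.StrictHenselization
import Groth.Agent.Lib.IndEtale.Basic
import Groth.Agent.Lib.IndEtale.Zariski
import Mathlib.RingTheory.Ideal.GoingUp
import Mathlib.RingTheory.Ideal.GoingDown

/-!
Density of the punctured spectrum in flat schemes over a local ring, extension of clopens across the
closed fibre of `R ⊗_A R` for a strict henselization `R`.
-/

set_option autoImplicit false
set_option backward.isDefEq.respectTransparency false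
set_option backward.isDefEq.respectTransparency.types false

universe u

open CategoryTheory CategoryTheory.Limits AlgebraicGeometry IsLocalRing
open scoped TensorProduct

namespace Groth.Agent.Lib.SplitExt9

variable (A : Type u) [CommRing A] [IsLocalRing A]

theorem dense_preimage (hne : Nonempty (FEt.puncturedSpec A : Scheme.{u})) {T : Scheme.{u}}
    (t : T ⟶ Spec (CommRingCat.of A)) [Flat t] :
    Dense ((t ⁻¹ᵁ FEt.puncturedSpec A : T.Opens) : Set T) := by
  obtain ⟨⟨u, hu⟩⟩ := hne
  intro z
  by_cases hz : t z ∈ FEt.puncturedSpec A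
  · exact subset_closure hz
  have hm : t z = closedPoint A := not_not.1 hz
  have hsp : u ⤳ t z := hm ▸ IsLocalRing.specializes_closedPoint u
  obtain ⟨z', hz', hz''⟩ := (Flat.generalizingMap t) hsp
  refine hz'.mem_closed isClosed_closure (subset_closure ?_)
  show t z' ∈ FEt.puncturedSpec A
  rw [hz'']
  exact hu

theorem homExt (hne : Nonempty (FEt.puncturedSpec A : Scheme.{u})) {X Yr : Scheme.{u}}
    (p : X ⟶ Spec (CommRingCat.of A)) (y : Yr ⟶ X) [Etale y] [IsSeparated y] :
    HomExt (FEt.puncturedSpec A) p y := by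
  intro T t _ a b hab hat hO
  let k : T ⟶ pullback y y := pullback.lift a b hab
  let i : pullback (pullback.diagonal y) k ⟶ T := pullback.snd _ _
  have : IsClosedImmersion i := inferInstance
  have : IsOpenImmersion i := inferInstance
  have hr : ((t ⁻¹ᵁ FEt.puncturedSpec A : T.Opens) : Set T) ⊆ Set.range i := by
    intro z hz
    let l : (t ⁻¹ᵁ FEt.puncturedSpec A).toScheme ⟶ pullback (pullback.diagonal y) k :=
      pullback.lift ((t ⁻¹ᵁ FEt.puncturedSpec A).ι ≫ a) (t ⁻¹ᵁ FEt.puncturedSpec A).ι (by
        apply pullback.hom_ext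
        · simp [k]
        · simp only [k, Category.assoc, pullback.diagonal_snd, pullback.lift_snd, Category.comp_id]
          exact hO)
    exact ⟨l ⟨z, hz⟩, by rw [← Scheme.Hom.comp_apply, pullback.lift_snd]; rfl⟩
  have hsurj : Surjective i := ⟨fun z =>
    ((dense_preimage A hne t).mono hr).closure_eq ▸ Set.mem_univ z |> fun h =>
      (i.isClosedEmbedding.isClosed_range.closure_eq ▸ h : z ∈ Set.range i)⟩
  have : IsIso i := (isIso_iff_isOpenImmersion_and_surjective _).2 ⟨inferInstance, hsurj⟩
  have e := pullback.condition (f := pullback.diagonal y) (g := k)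
  have e1 := congrArg (fun f => inv i ≫ f ≫ pullback.fst y y) e
  have e2 := congrArg (fun f => inv i ≫ f ≫ pullback.snd y y) e
  simp only [Category.assoc, pullback.diagonal_fst, pullback.diagonal_snd, Category.comp_id, i,
    IsIso.inv_hom_id_assoc, k, pullback.lift_fst, pullback.lift_snd] at e1 e2
  exact e1.symm.trans e2

variable (R : Type u) [CommRing R] [IsLocalRing R] [Algebra A R] [IsLocalHom (algebraMap A R)]
  [Hensel.IsStrictHenselization A R]

open Groth.Agent.Lib.Henselian in
theorem isIndEtale : EtPBC.IsIndEtale A R :=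
  IndEtale.Basic.of_algEquiv Henselian.IndEtale.isIndEtale_lim
    (StrictHenselization.equivOfIsStrictHenselization A (S := R))

theorem isIndEtale_tensor : EtPBC.IsIndEtale A (R ⊗[A] R) :=
  IndEtale.Basic.trans (isIndEtale A R) (IndEtale.Basic.baseChange R (isIndEtale A R))

variable {A R}

theorem maximalIdeal_le_comap (q : Ideal (R ⊗[A] R)) [q.IsPrime]
    (hq : q.comap (algebraMap A (R ⊗[A] R)) = maximalIdeal A) :
    maximalIdeal R ≤ q.comap (Algebra.TensorProduct.includeLeftRingHom : R →+* R ⊗[A] R) ∧
    maximalIdeal R ≤ q.comap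
      (Algebra.TensorProduct.includeRight : R →ₐ[A] R ⊗[A] R).toRingHom := by
  constructor <;>
    rw [← Henselian.StrictHenselization.map_maximalIdeal A R, Ideal.map_le_iff_le_comap,
      Ideal.comap_comap]
  · exact hq.ge
  · rw [AlgHom.toRingHom_eq_coe, AlgHom.comp_algebraMap]; exact hq.ge

theorem isIntegral_of_map_maximalIdeal {K : Type u} [CommRing K] [Algebra A K] (f : R →ₐ[A] K)
    (hf : ∀ x ∈ maximalIdeal R, f x = 0) (r : R) : IsIntegral A (f r) := by
  have := (‹Hensel.IsStrictHenselization A R›).isSepClosure.separable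
  have : Algebra.IsIntegral A (ResidueField A) :=
    ⟨fun x => by obtain ⟨a, rfl⟩ := residue_surjective x; exact isIntegral_algebraMap⟩
  have hr : IsIntegral A (residue R r) := isIntegral_trans _ (Algebra.IsIntegral.isIntegral (R := ResidueField A) _)
  let g : ResidueField R →ₐ[A] K :=
    { Ideal.Quotient.lift (maximalIdeal R) f.toRingHom hf with commutes' := f.commutes }
  exact hr.map g

theorem isMaximal_of_over_closedPoint (q : Ideal (R ⊗[A] R)) [q.IsPrime]
    (hq : q.comap (algebraMap A (R ⊗[A] R)) = maximalIdeal A) : q.IsMaximal := by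
  obtain ⟨hl, hr⟩ := maximalIdeal_le_comap q hq
  let π := Ideal.Quotient.mkₐ A q
  have : Algebra.IsIntegral A ((R ⊗[A] R) ⧸ q) := ⟨fun x => by
    obtain ⟨x, rfl⟩ := Ideal.Quotient.mkₐ_surjective A q x
    induction x using TensorProduct.induction_on with
    | zero => rw [map_zero]; exact isIntegral_zero
    | add a b ha hb => rw [map_add]; exact ha.add hb
    | tmul a b =>
      rw [show a ⊗ₜ[A] b = (a ⊗ₜ[A] 1) * (1 ⊗ₜ[A] b) by simp, map_mul]
      refine IsIntegral.mul ?_ ?_
      · exact isIntegral_of_map_maximalIdeal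
          (π.comp (Algebra.TensorProduct.includeLeft : R →ₐ[A] R ⊗[A] R))
          (fun x hx => Ideal.Quotient.eq_zero_iff_mem.2 (hl hx)) a
      · exact isIntegral_of_map_maximalIdeal
          (π.comp (Algebra.TensorProduct.includeRight : R →ₐ[A] R ⊗[A] R))
          (fun x hx => Ideal.Quotient.eq_zero_iff_mem.2 (hr hx)) b⟩
  have hbot : (⊥ : Ideal ((R ⊗[A] R) ⧸ q)).IsMaximal := by
    refine Ideal.isMaximal_of_isIntegral_of_isMaximal_comap (R := A) ⊥ ?_
    have : (⊥ : Ideal ((R ⊗[A] R) ⧸ q)).comap (algebraMap A _) = maximalIdeal A := by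
      rw [← hq, ← RingHom.ker_eq_comap_bot]
      ext a
      rw [RingHom.mem_ker, Ideal.mem_comap]
      exact Ideal.Quotient.eq_zero_iff_mem
    rw [this]
    infer_instance
  exact Ideal.Quotient.maximal_ideal_iff_isField_quotient q |>.2 (Ring.isField_iff_maximal_bot.2 hbot)

theorem isSeparable_residue_algHom {C : Type u} [CommRing C] [IsLocalRing C] [Algebra A C]
    [IsLocalHom (algebraMap A C)] (f : R →ₐ[A] C) (hf : ∀ r ∈ maximalIdeal R, ¬ IsUnit (f r))
    (r : R) : IsSeparable (ResidueField A) (residue C (f r)) := by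
  have := (‹Hensel.IsStrictHenselization A R›).isSepClosure.separable
  have hl : IsLocalHom f.toRingHom := ⟨fun r hr => by_contra fun h => hf r h hr⟩
  let g : ResidueField R →+* ResidueField C := ResidueField.map f.toRingHom
  have hg : ∀ r, g (residue R r) = residue C (f r) := fun r => ResidueField.map_residue _ r
  have hcomm : ∀ y, g (algebraMap (ResidueField A) (ResidueField R) y) =
      algebraMap (ResidueField A) (ResidueField C) y := fun y => by
    obtain ⟨a, rfl⟩ := residue_surjective y
    rw [ResidueField.algebraMap_residue, ResidueField.algebraMap_residue, hg, f.commutes]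
  let g' : ResidueField R →ₐ[ResidueField A] ResidueField C := { g with commutes' := hcomm }
  have h1 : IsSeparable (ResidueField A) (g' (residue R r)) :=
    IsSeparable.map g' g'.toRingHom.injective
      (Algebra.IsSeparable.isSeparable (ResidueField A) (residue R r))
  have h2 : g' (residue R r) = residue C (f r) := hg r
  rw [← h2]
  exact h1

theorem connectedSpace_punctured_strict (hR : ConnectedSpace (FEt.puncturedSpec R : Scheme.{u}))
    (x : ↥(Spec (CommRingCat.of (R ⊗[A] R))))
    (hx : x.asIdeal.comap (algebraMap A (R ⊗[A] R)) = maximalIdeal A)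
    (R' : Type u) [CommRing R'] [IsLocalRing R']
    [Algebra ((Spec (CommRingCat.of (R ⊗[A] R))).presheaf.stalk x) R']
    [IsLocalHom (algebraMap ((Spec (CommRingCat.of (R ⊗[A] R))).presheaf.stalk x) R')]
    [Hensel.IsStrictHenselization ((Spec (CommRingCat.of (R ⊗[A] R))).presheaf.stalk x) R'] :
    ConnectedSpace (FEt.puncturedSpec R' : Scheme.{u}) := by
  let B := R ⊗[A] R
  let q := x.asIdeal
  let Q := Localization.AtPrime q
  let C := (Spec (CommRingCat.of B)).presheaf.stalk x
  let : Algebra B C := StructureSheaf.stalkAlgebra B x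
  have : IsLocalization.AtPrime C q := StructureSheaf.IsLocalization.to_stalk B x
  let : Algebra A C := ((algebraMap B C).comp (algebraMap A B)).toAlgebra
  have : IsScalarTower A B C := IsScalarTower.of_algebraMap_eq fun _ => rfl
  have hind : EtPBC.IsIndEtale A C := IndEtale.Basic.of_factors
    (IndEtale.Zariski.factors_localization (IndEtale.Basic.impliesFP A)
      IndEtale.Zariski.stableAway_etale (IndEtale.Basic.factors (isIndEtale_tensor A R))
      q.primeCompl C)
  have hmem : ∀ b : B, IsUnit (algebraMap B C b) ↔ b ∉ q := fun b =>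
    IsLocalization.AtPrime.isUnit_to_map_iff C q b
  have : IsLocalHom (algebraMap A C) := ⟨fun a ha => by
    by_contra hu
    exact (hmem (algebraMap A B a)).1 ha (hx.ge hu)⟩
  obtain ⟨hl, hr⟩ := maximalIdeal_le_comap q hx
  have hsep : ∀ (f : R →ₐ[A] C) (_ : ∀ r ∈ maximalIdeal R, ¬ IsUnit (f r)) (r : R),
      IsSeparable (ResidueField A) (residue C (f r)) := fun f hf r =>
    isSeparable_residue_algHom f hf r
  have hB : ∀ b : B, residue C (algebraMap B C b) ∈ separableClosure (ResidueField A) (ResidueField C) := by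
    intro b
    induction b using TensorProduct.induction_on with
    | zero => rw [map_zero, map_zero]; exact zero_mem _
    | add a b ha hb => rw [map_add, map_add]; exact add_mem ha hb
    | tmul a b =>
      rw [show a ⊗ₜ[A] b = (a ⊗ₜ[A] 1) * (1 ⊗ₜ[A] b) by simp, map_mul, map_mul]
      refine mul_mem ?_ ?_
      · exact mem_separableClosure_iff.2 (hsep
          ((IsScalarTower.toAlgHom A B C).comp (Algebra.TensorProduct.includeLeft : R →ₐ[A] B))
          (fun r hr hu => (hmem _).1 hu (hl hr)) a)
      · exact mem_separableClosure_iff.2 (hsep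
          ((IsScalarTower.toAlgHom A B C).comp (Algebra.TensorProduct.includeRight : R →ₐ[A] B))
          (fun r hr' hu => (hmem _).1 hu (hr hr')) b)
  have : Algebra.IsSeparable (ResidueField A) (ResidueField C) := ⟨fun z => by
    obtain ⟨c, rfl⟩ := residue_surjective z
    obtain ⟨b, s, rfl⟩ := IsLocalization.exists_mk'_eq q.primeCompl c
    refine mem_separableClosure_iff.1 ?_
    have hs := hB s
    have hne : residue C (algebraMap B C s) ≠ 0 :=
      residue_ne_zero_iff_isUnit _ |>.2 ((hmem _).2 s.2)
    have : residue C (IsLocalization.mk' C b s) =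
        residue C (algebraMap B C b) * (residue C (algebraMap B C s))⁻¹ := by
      rw [eq_mul_inv_iff_mul_eq₀ hne, ← map_mul, IsLocalization.mk'_spec]
    rw [this]
    exact mul_mem (hB b) (inv_mem hs)⟩
  obtain ⟨e⟩ := Groth.Agent.Lib.Unram.UnibranchEtaleAlg.exists_strict_equiv A C hind
  let eR := (Henselian.StrictHenselization.equivOfIsStrictHenselization A (S := R)).toRingEquiv
  let eR' := (Henselian.StrictHenselization.equivOfIsStrictHenselization C (S := R')).toRingEquiv
  let E : R ≃+* R' := eR.symm.trans (e.trans eR')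
  let φ := PrimeSpectrum.homeomorphOfRingEquiv E
  have hpre : _root_.IsConnected ({closedPoint R}ᶜ : Set (PrimeSpectrum R)) :=
    isConnected_iff_connectedSpace.2 hR
  have himg : φ '' {closedPoint R}ᶜ = {closedPoint R'}ᶜ := by
    rw [Set.image_compl_eq φ.bijective, Set.image_singleton]
    congr 2
    exact IsLocalRing.comap_closedPoint (E.symm : R' →+* R)
  have := hpre.image φ φ.continuous.continuousOn
  rw [himg] at this
  exact isConnected_iff_connectedSpace.1 this

/-- Clopens extend across the closed fibre for finite étale schemes over `R ⊗_A R`. -/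
theorem exists_isClopen_extend (hR : ConnectedSpace (FEt.puncturedSpec R : Scheme.{u}))
    (hne : Nonempty (FEt.puncturedSpec A : Scheme.{u}))
    (hqc : QuasiCompact (FEt.puncturedSpec A).ι) {W : Scheme.{u}}
    (h : W ⟶ Spec (CommRingCat.of (R ⊗[A] R))) [IsFinite h] [Etale h] (O : Set W)
    (hO : O = (h ≫ Spec.map (CommRingCat.ofHom (algebraMap A (R ⊗[A] R)))) ⁻¹'
      (FEt.puncturedSpec A : Set ↥(Spec (CommRingCat.of A))))
    (C : Set O) (hC : IsClopen C) : ∃ D : Set W, IsClopen D ∧ (Subtype.val ⁻¹' D : Set O) = C := by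
  let f := Spec.map (CommRingCat.ofHom (algebraMap A (R ⊗[A] R)))
  have : Flat f := by
    rw [HasRingHomProperty.Spec_iff (P := @Flat)]
    exact RingHom.flat_algebraMap_iff.2 (IndEtale.Basic.flat (IndEtale.Basic.factors (isIndEtale_tensor A R)))
  let U := f ⁻¹ᵁ FEt.puncturedSpec A
  have : QuasiCompact U.ι := MorphismProperty.of_isPullback (P := @QuasiCompact)
    (isPullback_morphismRestrict f _) hqc
  let m := pullback.fst h U.ι
  have hmem : ∀ z, m z ∈ O := fun z => by
    rw [hO]
    show (h ≫ f) (m z) ∈ FEt.puncturedSpec A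
    rw [← Scheme.Hom.comp_apply, show m ≫ h ≫ f = pullback.snd h U.ι ≫ U.ι ≫ f by
      rw [← Category.assoc, pullback.condition, Category.assoc], Scheme.Hom.comp_apply,
      Scheme.Hom.comp_apply]
    exact (pullback.snd h U.ι z).2
  let m' : ↥(pullback h U.ι) → O := fun z => ⟨m z, hmem z⟩
  have hm' : Continuous m' := Continuous.subtype_mk m.continuous hmem
  have hm's : Function.Surjective m' := by
    rintro ⟨w, hw⟩
    rw [hO] at hw
    obtain ⟨z, hz, -⟩ := Scheme.Pullback.exists_preimage_pullback (f := h) (g := U.ι) w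
      (⟨h w, by simpa [U, f] using hw⟩ : U) rfl
    exact ⟨z, Subtype.ext hz⟩
  have hcl : ∀ x : ↥(Spec (CommRingCat.of (R ⊗[A] R))), x ∉ U → IsClosed ({x} : Set _) := fun x hx => by
    have : x.asIdeal.comap (algebraMap A (R ⊗[A] R)) = maximalIdeal A :=
      congrArg PrimeSpectrum.asIdeal (not_not.1 hx : f x = closedPoint A)
    exact (PrimeSpectrum.isClosed_singleton_iff_isMaximal x).2
      (isMaximal_of_over_closedPoint x.asIdeal this)
  obtain ⟨D, hD, hDC⟩ := Groth.Agent.S1145.exists_isClopen h U (dense_preimage A hne f) hcl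
    (fun x hx R' _ _ _ _ _ => connectedSpace_punctured_strict hR x
      (congrArg PrimeSpectrum.asIdeal (not_not.1 hx : f x = closedPoint A)) R')
    (m' ⁻¹' C) (hC.preimage hm')
  refine ⟨D, hD, ?_⟩
  ext w
  obtain ⟨z, rfl⟩ := hm's w
  exact Set.ext_iff.1 hDC z

end Groth.Agent.Lib.SplitExt9
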