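import Groth.Agent.Lib.FFDesc.AffineBase
import Groth.Prelude.Def_FEt
import Mathlib.AlgebraicGeometry.Limits
import Mathlib.AlgebraicGeometry.Morphisms.FlatDescent
import Mathlib.AlgebraicGeometry.Morphisms.Descent
import Groth.Agent.Lib.DescAlg.Descends

/-!
Extending a finite étale cover from an open along a faithfully flat affine cover over which it is
the restriction of a cover, when morphisms extend uniquely across the complement.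
-/

set_option autoImplicit false
set_option backward.isDefEq.respectTransparency false

universe u

open CategoryTheory CategoryTheory.Limits AlgebraicGeometry

namespace Groth.Agent.Lib.SplitExt9

variable {S X Yr Z V : Scheme.{u}}

theorem range_subset_of_comp {T : Scheme.{u}} (U : S.Opens) {p : X ⟶ S} {y : Yr ⟶ X} {m : Z ⟶ Yr}
    (hrange : Set.range m = (y ≫ p) ⁻¹' (U : Set S)) (v : T ⟶ Yr)
    (hv : Set.range (v ≫ y ≫ p) ⊆ U) : Set.range v ⊆ Set.range m := by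
  rintro _ ⟨t, rfl⟩
  rw [hrange]
  exact hv ⟨t, by rw [Scheme.Hom.comp_apply]⟩

/-- Equalities of maps into `Yr` may be checked over `U` on schemes flat over `S`. -/
def HomExt (U : S.Opens) (p : X ⟶ S) (y : Yr ⟶ X) : Prop :=
  ∀ {T : Scheme.{u}} (t : T ⟶ S) [Flat t] (a b : T ⟶ Yr), a ≫ y = b ≫ y → a ≫ y ≫ p = t →
    (t ⁻¹ᵁ U).ι ≫ a = (t ⁻¹ᵁ U).ι ≫ b → a = b

theorem exists_extension [IsAffine S] [IsAffine X] [IsAffine Yr] (U : S.Opens) (p : X ⟶ S)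
    [Flat p] [Surjective p] (y : Yr ⟶ X) (hy : FEt.prop.{u} y)
    (m : Z ⟶ Yr) [IsOpenImmersion m] (hrange : Set.range m = (y ≫ p) ⁻¹' (U : Set S))
    (v : V ⟶ S) (e : Z ⟶ V) (hpb : IsPullback e (m ≫ y) v p)
    (huniq : HomExt U p y) (Φ : pullback (y ≫ p) p ⟶ Yr)
    (hΦ : Φ ≫ y = pullback.snd _ _)
    (hspec : ∀ {T : Scheme.{u}} (z : T ⟶ Z) (x₁ : T ⟶ X) (w : (z ≫ e) ≫ v = x₁ ≫ p)
      (w' : (z ≫ m) ≫ y ≫ p = x₁ ≫ p),
      pullback.lift (z ≫ m) x₁ w' ≫ Φ = hpb.lift (z ≫ e) x₁ w ≫ m) :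
    ∃ (Y : Scheme.{u}) (g : Y ⟶ S) (j : V ⟶ Y), FEt.prop.{u} g ∧
      j ≫ g = v ∧ IsOpenImmersion j ∧ Set.range j = g ⁻¹' (U : Set S) := by
  have : IsFinite y := hy.1
  have : Etale y := hy.2
  let act₀ : ∀ {T : Scheme.{u}} (w : T ⟶ Yr) (x₁ : T ⟶ X), (w ≫ y) ≫ p = x₁ ≫ p → (T ⟶ Yr) :=
    fun w x₁ h => pullback.lift w x₁ (by rw [← Category.assoc, h]) ≫ Φ
  have act₀_y : ∀ {T : Scheme.{u}} (w : T ⟶ Yr) (x₁ : T ⟶ X) (h : (w ≫ y) ≫ p = x₁ ≫ p),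
      act₀ w x₁ h ≫ y = x₁ := fun w x₁ h => by
    rw [Category.assoc, hΦ, pullback.lift_snd]
  have act₀_nat : ∀ {T T' : Scheme.{u}} (k : T' ⟶ T) (w : T ⟶ Yr) (x₁ : T ⟶ X)
      (h : (w ≫ y) ≫ p = x₁ ≫ p) (h' : ((k ≫ w) ≫ y) ≫ p = (k ≫ x₁) ≫ p),
      k ≫ act₀ w x₁ h = act₀ (k ≫ w) (k ≫ x₁) h' := fun k w x₁ h h' => by
    rw [← Category.assoc]
    congr 1
    apply pullback.hom_ext <;> simp
  have act₀_congr : ∀ {T : Scheme.{u}} {w w' : T ⟶ Yr} {x x' : T ⟶ X} (h : (w ≫ y) ≫ p = x ≫ p)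
      (h' : (w' ≫ y) ≫ p = x' ≫ p), w = w' → x = x' → act₀ w x h = act₀ w' x' h' := by
    intro T w w' x x' h h' e1 e2; subst e1; subst e2; rfl
  -- lifting to `Z` over `U`
  have hlift : ∀ {T : Scheme.{u}} (w : T ⟶ Yr), Set.range (w ≫ y ≫ p) ⊆ U → ∃ z, z ≫ m = w :=
    fun w hw => ⟨IsOpenImmersion.lift m w (range_subset_of_comp U hrange w hw),
      IsOpenImmersion.lift_fac _ _ _⟩
  have heq : ∀ {T : Scheme.{u}} (z : T ⟶ Z), (z ≫ e) ≫ v = ((z ≫ m) ≫ y) ≫ p := fun z => by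
    simp [hpb.w]
  have spec' : ∀ {T : Scheme.{u}} (z : T ⟶ Z) (x₁ : T ⟶ X) (h : ((z ≫ m) ≫ y) ≫ p = x₁ ≫ p),
      act₀ (z ≫ m) x₁ h = hpb.lift (z ≫ e) x₁ ((heq z).trans h) ≫ m :=
    fun z x₁ h => hspec z x₁ _ _
  have hyp : Flat (y ≫ p) := inferInstance
  -- self
  have self : ∀ {T : Scheme.{u}} (w : T ⟶ Yr), act₀ w (w ≫ y) rfl = w := by
    have univ : act₀ (𝟙 Yr) (𝟙 Yr ≫ y) rfl = 𝟙 Yr := by
      refine huniq (y ≫ p) _ _ (act₀_y (𝟙 Yr) (𝟙 Yr ≫ y) rfl) ?_ ?_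
      · rw [← Category.assoc, act₀_y (𝟙 Yr) (𝟙 Yr ≫ y) rfl]; simp
      · set O := (y ≫ p) ⁻¹ᵁ U
        obtain ⟨z, hz⟩ := hlift (O.ι ≫ 𝟙 Yr) (by
          rintro _ ⟨t, rfl⟩
          simp only [Category.comp_id, Scheme.Hom.comp_apply]
          exact t.2)
        have kO : ((O.ι ≫ 𝟙 Yr) ≫ y) ≫ p = (O.ι ≫ 𝟙 Yr ≫ y) ≫ p := by simp only [Category.assoc]
        rw [act₀_nat O.ι (𝟙 Yr) (𝟙 Yr ≫ y) rfl kO, act₀_congr (w' := z ≫ m)
          (x' := (z ≫ m) ≫ y) kO rfl hz.symm (by rw [hz, Category.assoc]), spec' z _ rfl, ← hz]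
        congr 1
        exact hpb.hom_ext (hpb.lift_fst _ _ _) ((hpb.lift_snd _ _ _).trans (Category.assoc _ _ _))
    intro T w
    have := congrArg (w ≫ ·) univ
    have kw : ((w ≫ 𝟙 Yr) ≫ y) ≫ p = (w ≫ 𝟙 Yr ≫ y) ≫ p := by simp only [Category.assoc]
    rw [act₀_nat w (𝟙 Yr) (𝟙 Yr ≫ y) rfl kw] at this
    refine Eq.trans ?_ (this.trans (Category.comp_id w))
    exact act₀_congr rfl kw (Category.comp_id _).symm (by simp)
  -- cocycle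
  have cocycle : ∀ {T : Scheme.{u}} (w : T ⟶ Yr) (x₁ x₂ : T ⟶ X) (h₁ : (w ≫ y) ≫ p = x₁ ≫ p)
      (h₂ : x₁ ≫ p = x₂ ≫ p),
      act₀ (act₀ w x₁ h₁) x₂ (by rw [act₀_y w x₁ h₁, h₂]) = act₀ w x₂ (h₁.trans h₂) := by
    intro T w x₁ x₂ h₁ h₂
    let q := pullback.fst p p ≫ p
    let W := pullback (y ≫ p) q
    let w₀ : W ⟶ Yr := pullback.fst _ _
    let a : W ⟶ X := pullback.snd (y ≫ p) q ≫ pullback.fst p p
    let b : W ⟶ X := pullback.snd (y ≫ p) q ≫ pullback.snd p p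
    have k₁ : (w₀ ≫ y) ≫ p = a ≫ p := by
      simp only [w₀, a, Category.assoc]
      exact pullback.condition
    have k₂ : a ≫ p = b ≫ p := by simp [a, b, pullback.condition]
    have : Flat q := inferInstance
    have : Flat ((w₀ ≫ y) ≫ p) := by rw [Category.assoc]; infer_instance
    have univ : act₀ (act₀ w₀ a k₁) b (by rw [act₀_y w₀ a k₁, k₂]) = act₀ w₀ b (k₁.trans k₂) := by
      have k₂' : (act₀ w₀ a k₁ ≫ y) ≫ p = b ≫ p := by rw [act₀_y w₀ a k₁, k₂]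
      refine huniq (b ≫ p) (T := W) _ _ ((act₀_y (act₀ w₀ a k₁) b k₂').trans
        (act₀_y w₀ b (k₁.trans k₂)).symm) ?_ ?_
      · rw [← Category.assoc, act₀_y (act₀ w₀ a k₁) b k₂']
      · set O := (b ≫ p) ⁻¹ᵁ U
        have hO : Set.range (O.ι ≫ b ≫ p) ⊆ U := by
          rintro _ ⟨t, rfl⟩
          rw [Scheme.Hom.comp_apply]
          exact t.2
        obtain ⟨z, hz⟩ := hlift (O.ι ≫ w₀) (by
          rw [show (O.ι ≫ w₀) ≫ y ≫ p = O.ι ≫ b ≫ p by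
            rw [← k₂, ← k₁]; simp only [Category.assoc]]
          exact hO)
        have hza : ((z ≫ m) ≫ y) ≫ p = (O.ι ≫ a) ≫ p := by rw [hz]; simp [← k₁]
        have hzb : ((z ≫ m) ≫ y) ≫ p = (O.ι ≫ b) ≫ p := hza.trans (by simp [k₂])
        have kB : ((O.ι ≫ w₀) ≫ y) ≫ p = (O.ι ≫ b) ≫ p := by rw [← hz]; exact hzb
        have kA : ((O.ι ≫ w₀) ≫ y) ≫ p = (O.ι ≫ a) ≫ p := by rw [← hz]; exact hza
        have kC : ((O.ι ≫ act₀ w₀ a k₁) ≫ y) ≫ p = (O.ι ≫ b) ≫ p := by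
          rw [Category.assoc O.ι, act₀_y w₀ a k₁]
          exact (Category.assoc _ _ _).trans ((congrArg (O.ι ≫ ·) k₂).trans (Category.assoc _ _ _).symm)
        rw [act₀_nat O.ι w₀ b (k₁.trans k₂) kB,
          act₀_congr kB hzb hz.symm rfl, spec' z _ hzb,
          act₀_nat O.ι (act₀ w₀ a k₁) b k₂' kC]
        have e₁ : O.ι ≫ act₀ w₀ a k₁ = hpb.lift (z ≫ e) (O.ι ≫ a) ((heq z).trans hza) ≫ m := by
          rw [act₀_nat O.ι w₀ a k₁ kA, act₀_congr kA hza hz.symm rfl, spec' z _ hza]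
        have hze : ((hpb.lift (z ≫ e) (O.ι ≫ a) ((heq z).trans hza) ≫ m) ≫ y) ≫ p = (O.ι ≫ b) ≫ p := by
          rw [← e₁]; exact kC
        rw [act₀_congr (w' := hpb.lift (z ≫ e) (O.ι ≫ a) ((heq z).trans hza) ≫ m) kC
          hze e₁ rfl, spec' (hpb.lift (z ≫ e) (O.ι ≫ a) ((heq z).trans hza)) _ hze]
        congr 1
        apply hpb.hom_ext <;> simp
    let l : T ⟶ W := pullback.lift w (pullback.lift x₁ x₂ h₂) (by simp [q, ← h₁])
    have ew : l ≫ w₀ = w := pullback.lift_fst _ _ _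
    have ea : l ≫ a = x₁ := by simp [l, a]
    have eb : l ≫ b = x₂ := by simp [l, b]
    have := congrArg (l ≫ ·) univ
    have lA : ((l ≫ w₀) ≫ y) ≫ p = (l ≫ a) ≫ p := by rw [ew, ea]; exact h₁
    have lB : ((l ≫ w₀) ≫ y) ≫ p = (l ≫ b) ≫ p := by rw [ew, eb]; exact h₁.trans h₂
    have lC : ((l ≫ act₀ w₀ a k₁) ≫ y) ≫ p = (l ≫ b) ≫ p := by
      rw [Category.assoc l, act₀_y w₀ a k₁, ea, eb, h₂]
    rw [act₀_nat l (act₀ w₀ a k₁) b (by rw [act₀_y w₀ a k₁, k₂]) lC, act₀_nat l w₀ b (k₁.trans k₂) lB] at this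
    refine Eq.trans ?_ (this.trans (act₀_congr lB (h₁.trans h₂) ew eb))
    refine act₀_congr (by rw [act₀_y w x₁ h₁, h₂]) lC ?_ eb.symm
    rw [act₀_nat l w₀ a k₁ lA]
    exact act₀_congr h₁ lA ew.symm ea.symm
  have lw : ∀ {T : Scheme.{u}} {x₀ x₁ : T ⟶ X}, x₀ ≫ p = x₁ ≫ p →
      ∀ a : Desc.Lifts (Over.mk y) x₀, (a.1 ≫ y) ≫ p = x₁ ≫ p := fun h a => by
    rw [show a.1 ≫ y = _ from a.2]; exact h
  let φ₀ : ∀ {T : Scheme.{u}} (x₀ x₁ : T ⟶ X), x₀ ≫ p = x₁ ≫ p →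
      Desc.Lifts (Over.mk y) x₀ → Desc.Lifts (Over.mk y) x₁ := fun x₀ x₁ h a =>
    ⟨act₀ a.1 x₁ (lw h a), act₀_y a.1 x₁ (lw h a)⟩
  have φ_self : ∀ {T : Scheme.{u}} (x : T ⟶ X) (a : Desc.Lifts (Over.mk y) x), φ₀ x x rfl a = a := by
    intro T x a
    obtain ⟨a, rfl⟩ := a
    exact Subtype.ext (self a)
  have φ_comp : ∀ {T : Scheme.{u}} (x₀ x₁ x₂ : T ⟶ X) (e₁ : x₀ ≫ p = x₁ ≫ p)
      (e₂ : x₁ ≫ p = x₂ ≫ p) (a : Desc.Lifts (Over.mk y) x₀),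
      φ₀ x₁ x₂ e₂ (φ₀ x₀ x₁ e₁ a) = φ₀ x₀ x₂ (e₁.trans e₂) a :=
    fun x₀ x₁ x₂ e₁ e₂ a => Subtype.ext (cocycle a.1 x₁ x₂ (lw e₁ a) e₂)
  let D : Desc.SchDD p :=
    { obj := Over.mk y
      φ := fun T x₀ x₁ h =>
        { toFun := φ₀ x₀ x₁ h
          invFun := φ₀ x₁ x₀ h.symm
          left_inv := fun a => by rw [φ_comp x₀ x₁ x₀ h h.symm, φ_self]
          right_inv := fun a => by rw [φ_comp x₁ x₀ x₁ h.symm h, φ_self] }
      φ_natural := fun T T' k x₀ x₁ h h' a a' ha => by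
        show act₀ a'.1 (k ≫ x₁) (lw h' a') = k ≫ act₀ a.1 x₁ (lw h a)
        rw [act₀_nat k a.1 x₁ (lw h a) (by rw [← ha]; exact lw h' a')]
        exact act₀_congr (lw h' a') (by rw [← ha]; exact lw h' a') ha rfl
      φ_self := fun T x a => φ_self x a
      φ_comp := fun T x₀ x₁ x₂ e₁ e₂ a => φ_comp x₀ x₁ x₂ e₁ e₂ a }
  have : IsAffine D.obj.left := inferInstanceAs (IsAffine Yr)
  have : Scheme.IsQuasiAffine D.obj.left := inferInstance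
  obtain ⟨Y, q, H, -, hYaff⟩ := FFDesc.exists_isDescended_of_quasiAffine D
  have := hYaff inferInstance
  have sq : IsPullback y q p Y.hom := H.isPullback
  have hfs : (@Surjective ⊓ @Flat ⊓ @QuasiCompact : MorphismProperty Scheme.{u}) p :=
    ⟨⟨inferInstance, inferInstance⟩, inferInstance⟩
  have hg : FEt.prop.{u} Y.hom :=
    ⟨MorphismProperty.of_isPullback_of_descendsAlong (P := @IsFinite) sq hfs hy.1,
      MorphismProperty.of_isPullback_of_descendsAlong (P := @Etale) sq hfs hy.2⟩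
  have : Flat e := MorphismProperty.of_isPullback hpb.flip ‹Flat p›
  have : Surjective e := MorphismProperty.of_isPullback hpb.flip ‹Surjective p›
  have : QuasiCompact e := MorphismProperty.of_isPullback (P := @QuasiCompact) hpb.flip inferInstance
  have hcoeq : ∀ {T : Scheme.{u}} (z₁ z₂ : T ⟶ Z), z₁ ≫ e = z₂ ≫ e →
      z₁ ≫ m ≫ q = z₂ ≫ m ≫ q := by
    intro T z₁ z₂ he
    have h : ((z₁ ≫ m) ≫ y) ≫ p = ((z₂ ≫ m) ≫ y) ≫ p := by rw [← heq, ← heq, he]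
    have := H.φ_comp_q ((z₁ ≫ m) ≫ y) ((z₂ ≫ m) ≫ y) h ⟨z₁ ≫ m, rfl⟩
    change act₀ (z₁ ≫ m) ((z₂ ≫ m) ≫ y) h ≫ q = (z₁ ≫ m) ≫ q at this
    rw [spec' z₁ ((z₂ ≫ m) ≫ y) h] at this
    have e2 : hpb.lift (z₁ ≫ e) ((z₂ ≫ m) ≫ y) ((heq z₁).trans h) = z₂ :=
      hpb.hom_ext ((hpb.lift_fst _ _ _).trans he) ((hpb.lift_snd _ _ _).trans (Category.assoc _ _ _))
    rw [e2] at this
    simpa only [Category.assoc] using this.symm
  have : EffectiveEpi e := (FFDesc.fpqcCover_of_quasiCompact e).effectiveEpi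
  let j : V ⟶ Y.left := EffectiveEpi.desc e (m ≫ q) (fun z₁ z₂ h => hcoeq z₁ z₂ h)
  have hej : e ≫ j = m ≫ q := EffectiveEpi.fac e _ _
  have hjg : j ≫ Y.hom = v := by
    rw [← cancel_epi e, reassoc_of% hej, ← sq.w, hpb.w, Category.assoc]
  have hZ : IsPullback e m j q := by
    refine IsPullback.of_bot ?_ hej sq.flip
    rw [hjg]
    exact hpb
  have : QuasiCompact q := MorphismProperty.of_isPullback (P := @QuasiCompact) sq inferInstance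
  have hqs : (@Surjective ⊓ @Flat ⊓ @QuasiCompact : MorphismProperty Scheme.{u}) q :=
    MorphismProperty.of_isPullback sq hfs
  have hj : IsOpenImmersion j :=
    MorphismProperty.of_isPullback_of_descendsAlong (P := @IsOpenImmersion) hZ.flip hqs ‹_›
  refine ⟨Y.left, Y.hom, j, hg, hjg, hj, ?_⟩
  have hqsurj : Surjective q := hqs.1.1
  ext w
  obtain ⟨w', rfl⟩ := q.surjective w
  have hiff : q w' ∈ Y.hom ⁻¹' (U : Set S) ↔ w' ∈ Set.range m := by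
    rw [hrange, Set.mem_preimage, Set.mem_preimage, ← Scheme.Hom.comp_apply, ← sq.w]
    rfl
  rw [hiff]
  constructor
  · rintro ⟨a, ha⟩
    obtain ⟨z, -, hz⟩ := Scheme.Pullback.exists_preimage_pullback (f := j) (g := q) a w' ha
    refine ⟨hZ.isoPullback.inv z, ?_⟩
    rw [← Scheme.Hom.comp_apply, hZ.isoPullback_inv_snd]
    exact hz
  · rintro ⟨z, rfl⟩
    exact ⟨e z, by rw [← Scheme.Hom.comp_apply, hej, Scheme.Hom.comp_apply]; rfl⟩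

end Groth.Agent.Lib.SplitExt9
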